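import Mathlib

/-!
# Zariski's main theorem for birational finite type extensions, algebra
-/

universe u v

namespace Groth.Agent.ZMTBir

open Algebra

/-- If `B` is a finite type extension domain of `A` with the same fraction field, quasi-finite at
`q` lying over `p` with `A_p` integrally closed, then `B` is contained in `A[1/s]` with `s ∉ p`. -/
theorem exists_denominator {A : Type u} {B : Type v} [CommRing A] [IsDomain A] [CommRing B]
    [IsDomain B] [Algebra A B] [Algebra.FiniteType A B]
    (hinj : Function.Injective (algebraMap A B))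
    (hfrac : ∀ b : B, ∃ a s : A, s ≠ 0 ∧ b * algebraMap A B s = algebraMap A B a)
    (q : Ideal B) [q.IsPrime] [Algebra.QuasiFiniteAt A q]
    [IsIntegrallyClosed (Localization.AtPrime (q.under A))] :
    ∃ s : A, s ∉ q.under A ∧
      ∀ b : B, ∃ (a : A) (n : ℕ), b * algebraMap A B (s ^ n) = algebraMap A B a := by
  classical
  let K := FractionRing B
  haveI : IsScalarTower A B K := inferInstance
  have hBK : Function.Injective (algebraMap B K) := IsFractionRing.injective B K
  have hAK : Function.Injective (algebraMap A K) := by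
    rw [IsScalarTower.algebraMap_eq A B K]
    exact hBK.comp hinj
  haveI : FaithfulSMul A K := (faithfulSMul_iff_algebraMap_injective A K).mpr hAK
  haveI : IsFractionRing A K := IsFractionRing.of_field A K fun z => by
    obtain ⟨x, y, hy, rfl⟩ := IsFractionRing.div_surjective B z
    obtain ⟨a, s, hs, ha⟩ := hfrac x
    obtain ⟨a', s', hs', ha'⟩ := hfrac y
    have ha'0 : algebraMap A B a' ≠ 0 := by
      rw [← ha']
      exact mul_ne_zero (nonZeroDivisors.ne_zero hy) ((map_ne_zero_iff _ hinj).mpr hs')
    refine ⟨a * s', a' * s, ?_⟩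
    have hy0 : algebraMap B K y ≠ 0 := (map_ne_zero_iff _ hBK).mpr (nonZeroDivisors.ne_zero hy)
    have h2 : algebraMap A K (a' * s) ≠ 0 :=
      (map_ne_zero_iff _ hAK).mpr (mul_ne_zero (fun h => ha'0 (by simp [h])) hs)
    rw [div_eq_div_iff hy0 h2, IsScalarTower.algebraMap_apply A B K (a' * s),
      IsScalarTower.algebraMap_apply A B K (a * s'), ← map_mul, ← map_mul]
    congr 1
    rw [map_mul, map_mul, ← ha, ← ha']
    ring
  let p := q.under A
  have hp0 : p.primeCompl ≤ nonZeroDivisors A := Ideal.primeCompl_le_nonZeroDivisors p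
  let L := Localization.subalgebra.ofField K p.primeCompl hp0
  haveI : IsIntegrallyClosed L :=
    IsIntegrallyClosed.of_equiv (IsLocalization.algEquiv p.primeCompl (Localization.AtPrime p) L).toRingEquiv
  -- integral elements have denominators outside `p`
  have key : ∀ b : B, IsIntegral A b →
      ∃ a t : A, t ∉ p ∧ b * algebraMap A B t = algebraMap A B a := by
    intro b hb
    have hbK : IsIntegral A (algebraMap B K b) := hb.algebraMap
    have : IsIntegral L (algebraMap B K b) := hbK.tower_top
    obtain ⟨l, hl⟩ := (IsIntegrallyClosed.isIntegral_iff).mp this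
    obtain ⟨⟨a, t⟩, ht⟩ := IsLocalization.surj p.primeCompl l
    refine ⟨a, t.1, t.2, hBK ?_⟩
    rw [map_mul, ← IsScalarTower.algebraMap_apply, ← IsScalarTower.algebraMap_apply, ← hl,
      IsScalarTower.algebraMap_apply A L K, IsScalarTower.algebraMap_apply A L K, ← map_mul, ht]
  obtain ⟨r, hrq, hr, hm⟩ := zariskisMainProperty_iff.mp (ZariskisMainProperty.of_finiteType (R := A) q)
  obtain ⟨c, t, ht, hct⟩ := key r hr
  have hc : c ∉ p := by
    intro hc
    have hcq : algebraMap A B c ∈ q := hc
    rw [← hct] at hcq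
    rcases (Ideal.IsPrime.mem_or_mem ‹q.IsPrime› hcq) with h | h
    · exact hrq h
    · exact ht h
  have all : ∀ b : B, ∃ a u : A, u ∉ p ∧ b * algebraMap A B u = algebraMap A B a := by
    intro b
    obtain ⟨m, hmb⟩ := hm b
    obtain ⟨a, u, hu, hau⟩ := key _ hmb
    refine ⟨a * t ^ m, c ^ m * u, (q.under A).primeCompl.mul_mem
      ((q.under A).primeCompl.pow_mem hc m) hu, ?_⟩
    rw [map_mul, map_mul, map_pow, map_pow, ← hct, ← hau, mul_pow]
    ring
  choose num den hden hnd using all
  obtain ⟨G, hG⟩ : (⊤ : Subalgebra A B).FG := Algebra.FiniteType.out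
  let s := ∏ g ∈ G, den g
  refine ⟨s, Submonoid.prod_mem (q.under A).primeCompl (fun g _ => hden g), fun b => ?_⟩
  have hb : b ∈ Algebra.adjoin A (G : Set B) := by rw [hG]; trivial
  induction hb using Algebra.adjoin_induction with
  | mem g hg =>
    refine ⟨num g * ∏ i ∈ G.erase g, den i, 1, ?_⟩
    rw [pow_one, map_mul, ← hnd, show s = den g * ∏ i ∈ G.erase g, den i from
      (Finset.mul_prod_erase G den hg).symm, map_mul, mul_assoc]
  | algebraMap a => exact ⟨a, 0, by simp⟩
  | add x y _ _ hx hy =>
    obtain ⟨a, n, ha⟩ := hx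
    obtain ⟨a', n', ha'⟩ := hy
    refine ⟨a * s ^ n' + a' * s ^ n, n + n', ?_⟩
    rw [map_add, map_mul, map_mul, ← ha, ← ha']
    simp only [map_pow]
    ring
  | mul x y _ _ hx hy =>
    obtain ⟨a, n, ha⟩ := hx
    obtain ⟨a', n', ha'⟩ := hy
    refine ⟨a * a', n + n', ?_⟩
    rw [map_mul, ← ha, ← ha']
    simp only [map_pow]
    ring

end Groth.Agent.ZMTBir
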