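import Mathlib
import Groth.Agent.ZMTBir.Alg

/-!
# A birational separated morphism is a local isomorphism over normal points with a quasi-finite point
-/

universe u

namespace Groth.Agent.ZMTBir

open AlgebraicGeometry CategoryTheory TopologicalSpace

variable {X Y : Scheme.{u}}

/-- A section of a separated morphism that is an open immersion into an irreducible scheme
is an isomorphism. -/
theorem isIso_of_section_openImmersion {U : Y.Opens} (f : X ⟶ Y) [IsSeparated f] [IsIntegral X]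
    (σ : (U : Scheme.{u}) ⟶ X) [IsOpenImmersion σ] (hσ : σ ≫ f = U.ι) (y : U) :
    IsIso (f ∣_ U) := by
  have hr : Set.range σ ⊆ Set.range (f ⁻¹ᵁ U).ι := by
    rintro _ ⟨a, rfl⟩
    rw [Scheme.Opens.range_ι]
    change f (σ a) ∈ U
    rw [← Scheme.Hom.comp_apply, hσ]
    exact a.2
  let s : (U : Scheme.{u}) ⟶ (f ⁻¹ᵁ U : Scheme.{u}) := IsOpenImmersion.lift (f ⁻¹ᵁ U).ι σ hr
  have hsι : s ≫ (f ⁻¹ᵁ U).ι = σ := IsOpenImmersion.lift_fac _ _ _
  have hs : s ≫ (f ∣_ U) = 𝟙 _ := by
    rw [← cancel_mono U.ι, Category.assoc, morphismRestrict_ι, ← Category.assoc, hsι, hσ,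
      Category.id_comp]
  haveI : IsOpenImmersion (s ≫ (f ⁻¹ᵁ U).ι) := by rw [hsι]; infer_instance
  haveI : IsOpenImmersion s := .of_comp s (f ⁻¹ᵁ U).ι
  haveI : IsClosedImmersion (s ≫ (f ∣_ U)) := by rw [hs]; infer_instance
  haveI : IsClosedImmersion s := .of_comp s (f ∣_ U)
  haveI : Nonempty (f ⁻¹ᵁ U : X.Opens) := ⟨s y⟩
  haveI : IsIntegral (f ⁻¹ᵁ U : Scheme.{u}) := inferInstance
  haveI : Surjective s := by
    refine ⟨fun z => ?_⟩
    have hcl : IsClopen (Set.range s) :=
      ⟨s.isClosedEmbedding.isClosed_range, s.isOpenEmbedding.isOpen_range⟩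
    have := isClopen_iff.mp hcl
    rcases this with h | h
    · exact absurd h (Set.range_nonempty_iff_nonempty.mpr ⟨y⟩).ne_empty
    · exact Set.mem_range.mp (h ▸ Set.mem_univ z)
  haveI : IsIso s := (isIso_iff_isOpenImmersion_and_surjective s).mpr ⟨inferInstance, inferInstance⟩
  have : f ∣_ U = inv s := IsIso.eq_inv_of_hom_inv_id hs
  rw [this]
  infer_instance

/-- Zariski's main theorem, birational form: a separated birational morphism of integral schemes,
locally of finite type, quasi-finite at some point over a normal point `y`, is an isomorphism over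
a neighbourhood of `y`. -/
theorem exists_isIso_morphismRestrict [IsIntegral X] [IsIntegral Y] (f : X ⟶ Y) [IsSeparated f]
    [LocallyOfFiniteType f] (hbir : Function.Bijective (f.stalkMap (genericPoint X)))
    (x : X) (hq : f.QuasiFiniteAt x) (hy : IsIntegrallyClosed (Y.presheaf.stalk (f x))) :
    ∃ U : Y.Opens, f x ∈ U ∧ IsIso (f ∣_ U) := by
  obtain ⟨_, ⟨U, hU, rfl⟩, hxU, -⟩ :=
    Y.isBasis_affineOpens.exists_subset_of_mem_open (Set.mem_univ (f x)) isOpen_univ
  obtain ⟨_, ⟨V, hV, rfl⟩, hxV, hVU : V ≤ f ⁻¹ᵁ U⟩ :=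
    X.isBasis_affineOpens.exists_subset_of_mem_open
      (show x ∈ f ⁻¹ᵁ U from hxU) (f ⁻¹ᵁ U).isOpen
  haveI : Nonempty V := ⟨⟨x, hxV⟩⟩
  haveI : Nonempty U := ⟨⟨f x, hxU⟩⟩
  let η := genericPoint X
  have hηV : η ∈ V := ((genericPoint_spec X).mem_open_set_iff V.isOpen).mpr
    (by simpa using (inferInstance : Nonempty V))
  have hgerm : ∀ a, f.stalkMap η (Y.presheaf.germ U (f η) (hVU hηV) a) =
      X.presheaf.germ V η hηV (f.appLE U V hVU a) := fun a => by
    rw [Scheme.Hom.germ_stalkMap_apply]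
    change _ = X.presheaf.germ V η hηV ((f.app U ≫ X.presheaf.map (homOfLE hVU).op) a)
    rw [CommRingCat.comp_apply, X.presheaf.germ_res_apply (homOfLE hVU) η hηV]
  let φ := (f.appLE U V hVU).hom
  letI : Algebra Γ(Y, U) Γ(X, V) := φ.toAlgebra
  haveI : Algebra.FiniteType Γ(Y, U) Γ(X, V) := f.finiteType_appLE hU hV hVU
  have hinj : Function.Injective (algebraMap Γ(Y, U) Γ(X, V)) := fun a b h => by
    apply germ_injective_of_isIntegral Y (f η) (hVU hηV)
    apply hbir.1
    rw [hgerm, hgerm]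
    exact congrArg (X.presheaf.germ V η hηV) h
  have hfrac : ∀ b : Γ(X, V), ∃ a s : Γ(Y, U), s ≠ 0 ∧
      b * algebraMap _ Γ(X, V) s = algebraMap _ Γ(X, V) a := by
    intro b
    obtain ⟨z, hz⟩ := hbir.2 (X.presheaf.germ V η hηV b)
    letI := TopCat.Presheaf.algebra_section_stalk Y.presheaf (⟨f η, hVU hηV⟩ : U)
    haveI := hU.isLocalization_stalk ⟨f η, hVU hηV⟩
    obtain ⟨⟨a, s⟩, has⟩ :=
      IsLocalization.surj (hU.primeIdealOf ⟨f η, hVU hηV⟩).asIdeal.primeCompl z
    refine ⟨a, s.1, fun h => s.2 (h ▸ zero_mem _), germ_injective_of_isIntegral X η hηV ?_⟩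
    change z * Y.presheaf.germ U (f η) (hVU hηV) s.1 = Y.presheaf.germ U (f η) (hVU hηV) a at has
    have h2 := congrArg (f.stalkMap η) has
    rw [map_mul, hz, hgerm, hgerm] at h2
    rw [map_mul]
    exact h2
  let q := (hV.primeIdealOf ⟨x, hxV⟩).asIdeal
  haveI : Algebra.QuasiFiniteAt Γ(Y, U) q := hq.quasiFiniteAt hV hU hVU hxV
  have hpq : q.under Γ(Y, U) = (hU.primeIdealOf ⟨f x, hxU⟩).asIdeal :=
    congrArg PrimeSpectrum.asIdeal (IsAffineOpen.comap_primeIdealOf_appLE U hU V hV hVU hxV)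
  haveI : IsIntegrallyClosed (Localization.AtPrime (q.under Γ(Y, U))) := by
    letI := TopCat.Presheaf.algebra_section_stalk Y.presheaf (⟨f x, hxU⟩ : U)
    haveI := hU.isLocalization_stalk ⟨f x, hxU⟩
    have : IsLocalization.AtPrime (Y.presheaf.stalk (f x)) (q.under Γ(Y, U)) := by
      simp only [hpq]
      exact hU.isLocalization_stalk ⟨f x, hxU⟩
    haveI := hy
    exact IsIntegrallyClosed.of_equiv
      (IsLocalization.algEquiv (q.under Γ(Y, U)).primeCompl (Y.presheaf.stalk (f x)) _).toRingEquiv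
  obtain ⟨s, hs, hall⟩ := exists_denominator hinj hfrac q
  let U' : Y.Opens := Y.basicOpen s
  let V' : X.Opens := X.basicOpen (f.appLE U V hVU s)
  have hU' : IsAffineOpen U' := hU.basicOpen s
  have hV' : IsAffineOpen V' := hV.basicOpen _
  have hV'U' : V' ≤ f ⁻¹ᵁ U' := by
    rw [Scheme.preimage_basicOpen]
    change X.basicOpen ((f.app U ≫ X.presheaf.map (homOfLE hVU).op) s) ≤ _
    rw [CommRingCat.comp_apply, Scheme.basicOpen_res]
    exact inf_le_right
  have hfxU' : f x ∈ U' := by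
    rw [hpq] at hs
    have h1 : hU.fromSpec (hU.primeIdealOf ⟨f x, hxU⟩) = f x := hU.fromSpec_primeIdealOf _
    have h2 : hU.primeIdealOf ⟨f x, hxU⟩ ∈ hU.fromSpec ⁻¹ᵁ Y.basicOpen s := by
      rw [hU.fromSpec_preimage_basicOpen]
      exact hs
    change hU.fromSpec _ ∈ Y.basicOpen s at h2
    rwa [h1] at h2
  let ψ := f.appLE U' V' hV'U'
  have hcomm : ∀ a, ψ (Y.presheaf.map (homOfLE (Y.basicOpen_le s)).op a) =
      X.presheaf.map (homOfLE (X.basicOpen_le _)).op (f.appLE U V hVU a) := fun a => by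
    rw [← CommRingCat.comp_apply, ← CommRingCat.comp_apply, Scheme.Hom.map_appLE,
      Scheme.Hom.appLE_map]
  haveI : Nonempty U' := ⟨⟨f x, hfxU'⟩⟩
  have hηV' : η ∈ V' := by
    have h1 : f η ∈ U' := by
      have hspec : η ⤳ x := (genericPoint_spec X).specializes trivial
      exact (hspec.map f.continuous).mem_open U'.isOpen hfxU'
    change η ∈ X.basicOpen _
    rw [show f.appLE U V hVU s = X.presheaf.map (homOfLE hVU).op (f.app U s) from rfl,
      Scheme.basicOpen_res, ← Scheme.preimage_basicOpen]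
    exact ⟨hηV, h1⟩
  have hψ : Function.Bijective ψ := by
    constructor
    · intro a b h
      apply germ_injective_of_isIntegral Y (f η) (hV'U' hηV')
      apply hbir.1
      rw [Scheme.Hom.germ_stalkMap_apply, Scheme.Hom.germ_stalkMap_apply,
        ← X.presheaf.germ_res_apply (homOfLE hV'U') η hηV',
        ← X.presheaf.germ_res_apply (homOfLE hV'U') η hηV']
      exact congrArg (X.presheaf.germ V' η hηV') h
    · intro b
      haveI := hV.isLocalization_basicOpen (f.appLE U V hVU s)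
      haveI := hU.isLocalization_basicOpen s
      obtain ⟨⟨c, t⟩, hct⟩ := IsLocalization.surj (Submonoid.powers (f.appLE U V hVU s)) b
      obtain ⟨k, hk⟩ := t.2
      obtain ⟨a, n, ha⟩ := hall c
      have hsu : IsUnit (Y.presheaf.map (homOfLE (Y.basicOpen_le s)).op s) :=
        IsLocalization.map_units Γ(Y, U') (⟨s, Submonoid.mem_powers s⟩ : Submonoid.powers s)
      obtain ⟨v, hv⟩ := hsu.pow (k + n)
      refine ⟨Y.presheaf.map (homOfLE (Y.basicOpen_le s)).op a * ↑v⁻¹, ?_⟩
      refine (v.isUnit.map ψ.hom).mul_right_cancel ?_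
      rw [← map_mul, mul_assoc, Units.inv_mul, mul_one]
      change ψ _ = b * ψ _
      rw [hcomm, hv, ← map_pow, hcomm, map_pow, map_pow]
      have e1 : f.appLE U V hVU a = c * f.appLE U V hVU s ^ n := by
        have : c * f.appLE U V hVU (s ^ n) = f.appLE U V hVU a := ha
        rw [← this, map_pow]
      change b * X.presheaf.map (homOfLE (X.basicOpen_le _)).op t.1 =
        X.presheaf.map (homOfLE (X.basicOpen_le _)).op c at hct
      rw [e1, map_mul, ← hct, ← hk, map_pow, map_pow, mul_assoc, ← pow_add]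
  haveI : IsIso ψ := (ConcreteCategory.isIso_iff_bijective ψ).mpr hψ
  let σ : (U' : Scheme.{u}) ⟶ X := hU'.isoSpec.hom ≫ Spec.map (inv ψ) ≫ hV'.fromSpec
  have hσ : σ ≫ f = U'.ι := by
    simp only [σ, Category.assoc]
    rw [← hU'.SpecMap_appLE_fromSpec f hV' hV'U', ← Spec.map_comp_assoc, IsIso.hom_inv_id,
      Spec.map_id, Category.id_comp, IsAffineOpen.isoSpec_hom, IsAffineOpen.toSpecΓ_fromSpec]
  exact ⟨U', hfxU', isIso_of_section_openImmersion f σ hσ ⟨f x, hfxU'⟩⟩

end Groth.Agent.ZMTBir
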